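import Mathlib
import Groth.Prelude.Def_W4c5stacksedinertiaGpd

set_option autoImplicit false

universe u v

namespace Groth.Agent.H90

open W4c5stacksedinertia

/-- the canonical presentation is isomorphic to the group -/
noncomputable def finGrpOfEquiv (G : Type u) [Group G] [Finite G] : (FinGrp.of G).carrier ≃* G :=
  (Nat.equivFinOfCardPos (α := G) Nat.card_pos.ne').symm.mulEquiv

theorem idxOf_eq_of_mulEquiv {G : Type u} {H : Type v} [Group G] [Finite G] [Group H] [Finite H]
    (e : G ≃* H) : Idx.of G = Idx.of H := by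
  apply Quotient.sound
  exact ⟨(finGrpOfEquiv G).trans (e.trans (finGrpOfEquiv H).symm)⟩

/-- the chosen representative of the class of `G` is isomorphic to `G` -/
noncomputable def idxRepEquiv (G : Type u) [Group G] [Finite G] : (Idx.of G).rep ≃* G := by
  have h : FinGrp.setoid.r (Quotient.out (s := FinGrp.setoid) (Idx.of G)) (FinGrp.of G) :=
    Quotient.exact (Quotient.out_eq (s := FinGrp.setoid) (Idx.of G))
  exact (Classical.choice h).trans (finGrpOfEquiv G)

theorem idxOf_rep (i : Idx) : Idx.of i.rep = i := by
  have h1 : Idx.of i.rep = Quotient.mk FinGrp.setoid (Quotient.out (s := FinGrp.setoid) i) := by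
    apply Quotient.sound
    exact ⟨finGrpOfEquiv _⟩
  rw [h1]
  exact Quotient.out_eq (s := FinGrp.setoid) i

theorem idx_card_of (G : Type u) [Group G] [Finite G] : (Idx.of G).card = Nat.card G :=
  Nat.card_congr (idxRepEquiv G).toEquiv

theorem idx_centerCard_of (G : Type u) [Group G] [Finite G] :
    (Idx.of G).centerCard = Nat.card (Subgroup.center G) :=
  Nat.card_congr (Subgroup.centerCongr (idxRepEquiv G)).toEquiv

theorem cl_eq_of_mulEquiv {G : Type u} {H : Type v} [Group G] [Finite G] [Group H] [Finite H]
    (e : G ≃* H) : cl G = cl H := by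
  unfold cl
  rw [idxOf_eq_of_mulEquiv e]

theorem cl_rep (i : Idx) : cl i.rep = Finsupp.single i 1 := by
  unfold cl
  rw [idxOf_rep]

theorem cl_mem_Kle {G : Type u} [Group G] [Finite G] {n : ℕ} (h : Nat.card G ≤ n) : cl G ∈ Kle n := by
  unfold cl Kle
  rw [Finsupp.mem_supported]
  intro i hi
  have : i = Idx.of G := by
    have := Finsupp.support_single_subset (Finset.mem_coe.mp hi)
    exact Finset.mem_singleton.mp this
  rw [this]
  show (Idx.of G).card ≤ n
  rw [idx_card_of]; exact h

theorem cl_mem_Kge {G : Type u} [Group G] [Finite G] {k : ℕ} (h : k ≤ Nat.card (Subgroup.center G)) :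
    cl G ∈ Kge k := by
  unfold cl Kge
  rw [Finsupp.mem_supported]
  intro i hi
  have : i = Idx.of G := by
    have := Finsupp.support_single_subset (Finset.mem_coe.mp hi)
    exact Finset.mem_singleton.mp this
  rw [this]
  show k ≤ (Idx.of G).centerCard
  rw [idx_centerCard_of]; exact h

theorem Kge_anti {k l : ℕ} (h : k ≤ l) : Kge l ≤ Kge k := by
  unfold Kge
  apply Finsupp.supported_mono
  intro j hj
  exact le_trans h hj

/-- a linear map sending the basis vectors indexed by `s` into `W` sends `supported s` into `W` -/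
theorem map_mem_of_basis (L : K →ₗ[ℚ] K) (s : Set Idx) (W : Submodule ℚ K)
    (h : ∀ i ∈ s, L (Finsupp.single i 1) ∈ W) (v : K) (hv : v ∈ Finsupp.supported ℚ ℚ s) :
    L v ∈ W := by
  rw [← Finsupp.sum_single v, Finsupp.sum, map_sum]
  apply Submodule.sum_mem
  intro i hi
  have : (Finsupp.single i (v i) : K) = (v i) • Finsupp.single i 1 := by
    rw [Finsupp.smul_single, smul_eq_mul, mul_one]
  rw [this, map_smul]
  apply Submodule.smul_mem
  apply h
  rw [Finsupp.mem_supported] at hv
  exact hv (Finset.mem_coe.mpr hi)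

theorem inertiaR_single (r : ℕ) (i : Idx) :
    inertiaR r (Finsupp.single i 1) = inertiaROf r i.rep := by
  unfold inertiaR
  rw [Finsupp.linearCombination_single, one_smul]

end Groth.Agent.H90
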