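import Mathlib
import Groth.Agent.H90.Inertia.Basic

set_option autoImplicit false

universe u v

namespace Groth.Agent.H90

open W4c5stacksedinertia

section general

theorem sum_quotient_out {X : Type*} [Fintype X] (S : Setoid X) [DecidableRel S.r]
    [Fintype (Quotient S)] {M : Type*} [AddCommGroup M] [Module ℚ M] (φ : X → M)
    (hφ : ∀ s t, S.r s t → φ s = φ t) :
    ∑ O : Quotient S, φ (Quotient.out O)
      = ∑ s : X, (1 / ((Finset.univ.filter (fun t => S.r t s)).card : ℚ)) • φ s := by
  classical
  rw [← Finset.sum_fiberwise Finset.univ (Quotient.mk S)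
    (fun s => (1 / ((Finset.univ.filter (fun t => S.r t s)).card : ℚ)) • φ s)]
  apply Finset.sum_congr rfl
  intro O _
  have hO : ∀ s ∈ Finset.univ.filter (fun s => Quotient.mk S s = O),
      (1 / ((Finset.univ.filter (fun t => S.r t s)).card : ℚ)) • φ s
        = (1 / ((Finset.univ.filter (fun s => Quotient.mk S s = O)).card : ℚ)) • φ (Quotient.out O) := by
    intro s hs
    have hsO : Quotient.mk S s = O := (Finset.mem_filter.mp hs).2
    have hrel : S.r s (Quotient.out O) := by
      apply Quotient.exact
      rw [hsO, Quotient.out_eq]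
    have hset : Finset.univ.filter (fun t => S.r t s) = Finset.univ.filter (fun t => Quotient.mk S t = O) := by
      ext t
      simp only [Finset.mem_filter, Finset.mem_univ, true_and]
      rw [← hsO]
      exact ⟨fun h => Quotient.sound h, fun h => Quotient.exact h⟩
    rw [hset, hφ s _ hrel]
  rw [Finset.sum_congr rfl hO, Finset.sum_const, ← Nat.cast_smul_eq_nsmul ℚ, smul_smul]
  have hne : ((Finset.univ.filter (fun s => Quotient.mk S s = O)).card : ℚ) ≠ 0 := by
    have : Quotient.out O ∈ Finset.univ.filter (fun s => Quotient.mk S s = O) := by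
      simp
    exact_mod_cast (Finset.card_pos.mpr ⟨_, this⟩).ne'
  rw [mul_one_div_cancel hne, one_smul]

end general

variable {G : Type u} [Group G]

instance commTupleFinite [Finite G] (r : ℕ) : Finite (CommTuple G r) := by
  unfold CommTuple; infer_instance

instance commTupleOrbitFinite [Finite G] (r : ℕ) : Finite (CommTuple.Orbit G r) := by
  unfold CommTuple.Orbit; infer_instance

/-- conjugate a commuting tuple -/
def conjTuple {r : ℕ} (g : G) (s : CommTuple G r) : CommTuple G r :=
  ⟨fun i => g * s.1 i * g⁻¹, by
    intro i j h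
    apply s.2.1
    have := congrArg (fun x => g⁻¹ * x * g) h
    simpa [mul_assoc] using this, by
    intro i j
    have := s.2.2 i j
    unfold Commute SemiconjBy at this ⊢
    calc g * s.1 i * g⁻¹ * (g * s.1 j * g⁻¹) = g * (s.1 i * s.1 j) * g⁻¹ := by group
      _ = g * (s.1 j * s.1 i) * g⁻¹ := by rw [this]
      _ = g * s.1 j * g⁻¹ * (g * s.1 i * g⁻¹) := by group⟩

instance commTupleMulAction (r : ℕ) : MulAction G (CommTuple G r) where
  smul := conjTuple
  one_smul s := by
    apply Subtype.ext
    funext i
    show 1 * s.1 i * 1⁻¹ = s.1 i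
    simp
  mul_smul g h s := by
    apply Subtype.ext
    funext i
    show (g * h) * s.1 i * (g * h)⁻¹ = g * (h * s.1 i * h⁻¹) * g⁻¹
    group

theorem smul_commTuple_apply {r : ℕ} (g : G) (s : CommTuple G r) (i : Fin r) :
    (g • s).1 i = g * s.1 i * g⁻¹ := rfl

theorem setoid_r_iff {r : ℕ} (s t : CommTuple G r) :
    (CommTuple.setoid G r).r s t ↔ t ∈ MulAction.orbit G s := by
  rw [MulAction.mem_orbit_iff]
  constructor
  · rintro ⟨g, hg⟩
    exact ⟨g, Subtype.ext (funext hg)⟩
  · rintro ⟨g, hg⟩
    exact ⟨g, fun i => by rw [← hg]; rfl⟩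

theorem stabilizer_commTuple {r : ℕ} (s : CommTuple G r) :
    MulAction.stabilizer G s = Subgroup.centralizer (Set.range s.1) := by
  ext g
  rw [MulAction.mem_stabilizer_iff, Subgroup.mem_centralizer_iff]
  constructor
  · intro h x hx
    obtain ⟨i, rfl⟩ := hx
    have := congrArg (fun t : CommTuple G r => t.1 i) h
    simp only [smul_commTuple_apply] at this
    calc s.1 i * g = (g * s.1 i * g⁻¹) * g := by rw [this]
      _ = g * s.1 i := by group
  · intro h
    apply Subtype.ext
    funext i
    rw [smul_commTuple_apply]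
    have := h (s.1 i) ⟨i, rfl⟩
    calc g * s.1 i * g⁻¹ = (s.1 i * g) * g⁻¹ := by rw [this]
      _ = s.1 i := by group

/-- centralizers of conjugate tuples are isomorphic -/
theorem cl_centralizer_smul [Finite G] {r : ℕ} (g : G) (s : CommTuple G r) :
    cl (Subgroup.centralizer (Set.range (g • s).1)) = cl (Subgroup.centralizer (Set.range s.1)) := by
  symm
  apply cl_eq_of_mulEquiv
  have hmap : (Subgroup.centralizer (Set.range s.1)).map (MulAut.conj g).toMonoidHom
      = Subgroup.centralizer (Set.range (g • s).1) := by
    rw [← stabilizer_commTuple, ← stabilizer_commTuple]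
    ext x
    rw [Subgroup.mem_map, MulAction.mem_stabilizer_iff]
    constructor
    · rintro ⟨y, hy, rfl⟩
      rw [MulAction.mem_stabilizer_iff] at hy
      show (g * y * g⁻¹) • g • s = g • s
      rw [smul_smul]
      have : g * y * g⁻¹ * g = g * y := by group
      rw [this, mul_smul, hy]
    · intro hx
      refine ⟨g⁻¹ * x * g, ?_, ?_⟩
      · rw [MulAction.mem_stabilizer_iff, mul_smul, mul_smul, hx, smul_smul]
        simp
      · show g * (g⁻¹ * x * g) * g⁻¹ = x
        group
  exact ((MulAut.conj g).subgroupMap _).trans (MulEquiv.subgroupCongr hmap)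

theorem inertiaROf_eq (r : ℕ) (G : Type u) [Group G] [Finite G] :
    inertiaROf r G = ∑ᶠ s : CommTuple G r,
      ((Nat.card (Subgroup.centralizer (Set.range s.1)) : ℚ) / (Nat.card G : ℚ)) •
        cl (Subgroup.centralizer (Set.range s.1)) := by
  classical
  have instX : Fintype (CommTuple G r) := Fintype.ofFinite _
  have instQ : Fintype (Quotient (CommTuple.setoid G r)) := Fintype.ofFinite _
  let instO : Fintype (CommTuple.Orbit G r) := instQ
  unfold inertiaROf
  rw [finsum_eq_sum_of_fintype, finsum_eq_sum_of_fintype]
  have key := sum_quotient_out (CommTuple.setoid G r)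
    (fun s : CommTuple G r => cl (Subgroup.centralizer (Set.range s.1)))
    (by
      intro s t hst
      rw [setoid_r_iff, MulAction.mem_orbit_iff] at hst
      obtain ⟨g, rfl⟩ := hst
      exact (cl_centralizer_smul g s).symm)
  have hLHS : ∑ O : CommTuple.Orbit G r,
      cl (Subgroup.centralizer (Set.range (Quotient.out (s := CommTuple.setoid G r) O).1))
      = ∑ O : Quotient (CommTuple.setoid G r),
      cl (Subgroup.centralizer (Set.range (Quotient.out O).1)) := by
    rfl
  rw [hLHS, key]
  apply Finset.sum_congr rfl
  intro s _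
  congr 1
  -- the weight
  have hcard : (Finset.univ.filter (fun t => (CommTuple.setoid G r).r t s)).card
      = Nat.card (MulAction.orbit G s) := by
    rw [Nat.card_eq_fintype_card, ← Fintype.card_subtype]
    apply Fintype.card_congr
    apply Equiv.subtypeEquivRight
    intro t
    rw [← setoid_r_iff]
    exact ⟨fun h => (CommTuple.setoid G r).symm h, fun h => (CommTuple.setoid G r).symm h⟩
  have hos : Nat.card (MulAction.orbit G s) * Nat.card (Subgroup.centralizer (Set.range s.1)) = Nat.card G := by
    rw [← stabilizer_commTuple, ← Nat.card_prod]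
    exact Nat.card_congr (MulAction.orbitProdStabilizerEquivGroup G s)
  rw [hcard]
  have hG : (Nat.card G : ℚ) ≠ 0 := by exact_mod_cast Nat.card_pos.ne'
  have ho : (Nat.card (MulAction.orbit G s) : ℚ) ≠ 0 := by
    intro h0
    have : Nat.card (MulAction.orbit G s) = 0 := by exact_mod_cast h0
    rw [this, zero_mul] at hos
    exact Nat.card_pos.ne' hos.symm
  rw [div_eq_div_iff ho hG, one_mul, ← hos]
  push_cast
  ring

end Groth.Agent.H90
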