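import Mathlib
import Groth.Agent.H90.Inertia.Formula

set_option autoImplicit false

universe u v

namespace Groth.Agent.H90

open W4c5stacksedinertia

variable {G : Type u} {H : Type v} [Group G] [Group H]

/-- transport a commuting tuple along an isomorphism -/
def mapTuple (e : G ≃* H) {r : ℕ} (s : CommTuple G r) : CommTuple H r :=
  ⟨fun i => e (s.1 i), fun _ _ h => s.2.1 (e.injective h), fun i j => (s.2.2 i j).map e⟩

theorem mapTuple_bijective (e : G ≃* H) (r : ℕ) : Function.Bijective (mapTuple e (r := r)) := by
  constructor
  · intro s t h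
    apply Subtype.ext
    funext i
    have := congrArg (fun x : CommTuple H r => x.1 i) h
    exact e.injective this
  · intro t
    refine ⟨⟨fun i => e.symm (t.1 i), fun i j h => t.2.1 (e.symm.injective h),
      fun i j => (t.2.2 i j).map e.symm⟩, ?_⟩
    apply Subtype.ext
    funext i
    simp [mapTuple]

/-- centralizers correspond under an isomorphism -/
def centralizerEquiv (e : G ≃* H) (S : Set G) :
    Subgroup.centralizer S ≃* Subgroup.centralizer (e '' S) where
  toFun g := ⟨e g.1, by
    rw [Subgroup.mem_centralizer_iff]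
    rintro x ⟨y, hy, rfl⟩
    have := (Subgroup.mem_centralizer_iff.mp g.2) y hy
    rw [← map_mul, ← map_mul, this]⟩
  invFun h := ⟨e.symm h.1, by
    rw [Subgroup.mem_centralizer_iff]
    intro y hy
    have := (Subgroup.mem_centralizer_iff.mp h.2) (e y) ⟨y, hy, rfl⟩
    apply e.injective
    rw [map_mul, map_mul, e.apply_symm_apply]
    exact this⟩
  left_inv g := by apply Subtype.ext; simp
  right_inv h := by apply Subtype.ext; simp
  map_mul' g h := by apply Subtype.ext; simp

theorem inertiaROf_congr [Finite G] [Finite H] (e : G ≃* H) (r : ℕ) :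
    inertiaROf r G = inertiaROf r H := by
  rw [inertiaROf_eq, inertiaROf_eq]
  apply finsum_eq_of_bijective (mapTuple e) (mapTuple_bijective e r)
  intro s
  have hrange : Set.range (mapTuple e s).1 = e '' Set.range s.1 := by
    ext x
    simp [mapTuple]
  have eqv : Subgroup.centralizer (Set.range s.1) ≃* Subgroup.centralizer (Set.range (mapTuple e s).1) :=
    (centralizerEquiv e (Set.range s.1)).trans (MulEquiv.subgroupCongr (by rw [hrange]))
  rw [cl_eq_of_mulEquiv eqv, Nat.card_congr eqv.toEquiv, Nat.card_congr e.toEquiv]

theorem inertiaR_cl (r : ℕ) (H : Type u) [Group H] [Finite H] :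
    inertiaR r (cl H) = inertiaROf r H := by
  unfold cl
  rw [inertiaR_single]
  exact inertiaROf_congr (idxRepEquiv H) r

/-- one-tuples are elements -/
def oneTupleEquiv (H : Type u) [Group H] : CommTuple H 1 ≃ H where
  toFun s := s.1 0
  invFun y := ⟨fun _ => y, fun i j _ => Subsingleton.elim i j, fun _ _ => Commute.refl y⟩
  left_inv s := by
    apply Subtype.ext
    funext i
    have : i = 0 := Subsingleton.elim i 0
    rw [this]
  right_inv y := rfl

theorem inertiaROf_one_eq (H : Type u) [Group H] [Finite H] :
    inertiaROf 1 H = ∑ᶠ y : H,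
      ((Nat.card (Subgroup.centralizer ({y} : Set H)) : ℚ) / (Nat.card H : ℚ)) •
        cl (Subgroup.centralizer ({y} : Set H)) := by
  rw [inertiaROf_eq]
  apply finsum_eq_of_bijective (oneTupleEquiv H) (oneTupleEquiv H).bijective
  intro s
  have hrange : Set.range s.1 = {oneTupleEquiv H s} := by
    ext x
    constructor
    · rintro ⟨i, rfl⟩
      have : i = 0 := Subsingleton.elim i 0
      rw [this]; rfl
    · intro hx
      exact ⟨0, hx.symm⟩
  rw [hrange]

end Groth.Agent.H90
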