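import Mathlib
import Groth.Agent.H90.Inertia.Congr

set_option autoImplicit false

universe u v

namespace Groth.Agent.H90

open W4c5stacksedinertia

variable {G : Type u} [Group G]

/-- the centralizer of an element inside a subgroup, as a subgroup of the ambient group -/
def centralizerSubgroupEquiv (H : Subgroup G) (y : H) :
    Subgroup.centralizer ({y} : Set H) ≃* (H ⊓ Subgroup.centralizer ({(y : G)} : Set G) : Subgroup G) where
  toFun x := ⟨x.1.1, Subgroup.mem_inf.mpr ⟨x.1.2, by
    rw [Subgroup.mem_centralizer_iff]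
    intro z hz
    rw [Set.mem_singleton_iff] at hz
    have := (Subgroup.mem_centralizer_iff.mp x.2) y rfl
    rw [hz]
    exact congrArg Subtype.val this⟩⟩
  invFun x := ⟨⟨x.1, (Subgroup.mem_inf.mp x.2).1⟩, by
    rw [Subgroup.mem_centralizer_iff]
    intro z hz
    rw [Set.mem_singleton_iff] at hz
    rw [hz]
    apply Subtype.ext
    exact (Subgroup.mem_centralizer_iff.mp (Subgroup.mem_inf.mp x.2).2) (y : G) rfl⟩
  left_inv x := rfl
  right_inv x := rfl
  map_mul' x z := rfl

/-- the subgroup centralizing the tuple `s` and the element `g` -/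
def tupleElemCentralizer {r : ℕ} (s : CommTuple G r) (g : G) : Subgroup G :=
  Subgroup.centralizer (Set.range s.1) ⊓ Subgroup.centralizer ({g} : Set G)

theorem tupleElemCentralizer_of_mem_range {r : ℕ} (s : CommTuple G r) {g : G} (hg : g ∈ Set.range s.1) :
    tupleElemCentralizer s g = Subgroup.centralizer (Set.range s.1) := by
  unfold tupleElemCentralizer
  apply inf_eq_left.mpr
  apply Subgroup.centralizer_le
  exact Set.singleton_subset_iff.mpr hg

theorem mem_centralizer_range_of_mem_range {r : ℕ} (s : CommTuple G r) {g : G} (hg : g ∈ Set.range s.1) :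
    g ∈ Subgroup.centralizer (Set.range s.1) := by
  obtain ⟨j, rfl⟩ := hg
  rw [Subgroup.mem_centralizer_iff]
  rintro x ⟨i, rfl⟩
  exact (s.2.2 i j).eq

/-- prepend an element commuting with the tuple and not occurring in it -/
def consTuple {r : ℕ} (s : CommTuple G r) (g : G)
    (h1 : g ∈ Subgroup.centralizer (Set.range s.1)) (h2 : g ∉ Set.range s.1) : CommTuple G (r + 1) :=
  ⟨Fin.cons g s.1, Fin.cons_injective_iff.mpr ⟨h2, s.2.1⟩, by
    have hc : ∀ i, Commute (s.1 i) g := fun i => (Subgroup.mem_centralizer_iff.mp h1) (s.1 i) ⟨i, rfl⟩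
    intro i j
    refine Fin.cases ?_ (fun i' => ?_) i <;> refine Fin.cases ?_ (fun j' => ?_) j
    · simp
    · simpa using (hc j').symm
    · simpa using hc i'
    · simpa using s.2.2 i' j'⟩

theorem centralizer_consTuple {r : ℕ} (s : CommTuple G r) (g : G)
    (h1 : g ∈ Subgroup.centralizer (Set.range s.1)) (h2 : g ∉ Set.range s.1) :
    Subgroup.centralizer (Set.range (consTuple s g h1 h2).1) = tupleElemCentralizer s g := by
  unfold tupleElemCentralizer consTuple
  simp only [Fin.range_cons]
  ext x
  simp only [Subgroup.mem_centralizer_iff, Set.mem_insert_iff, Subgroup.mem_inf, Set.mem_singleton_iff]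
  constructor
  · intro h
    exact ⟨fun y hy => h y (Or.inr hy), fun y hy => h y (Or.inl hy)⟩
  · rintro ⟨h1, h2⟩ y (hy | hy)
    · exact h2 y hy
    · exact h1 y hy

/-- the tail of an `(r+1)`-tuple -/
def tailTuple {r : ℕ} (t : CommTuple G (r + 1)) : CommTuple G r :=
  ⟨Fin.tail t.1, fun _ _ h => Fin.succ_injective _ (t.2.1 h), fun i j => t.2.2 i.succ j.succ⟩

theorem head_mem_centralizer_tail {r : ℕ} (t : CommTuple G (r + 1)) :
    t.1 0 ∈ Subgroup.centralizer (Set.range (tailTuple t).1) := by
  rw [Subgroup.mem_centralizer_iff]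
  rintro x ⟨i, rfl⟩
  exact (t.2.2 i.succ 0).eq

theorem head_not_mem_range_tail {r : ℕ} (t : CommTuple G (r + 1)) :
    t.1 0 ∉ Set.range (tailTuple t).1 := by
  rintro ⟨i, hi⟩
  have := t.2.1 hi
  exact Fin.succ_ne_zero i this

/-- pairs (tuple, new commuting element) correspond to longer tuples -/
def consEquiv (G : Type u) [Group G] (r : ℕ) :
    (Σ s : CommTuple G r, {g : G // g ∈ Subgroup.centralizer (Set.range s.1) ∧ g ∉ Set.range s.1})
      ≃ CommTuple G (r + 1) where
  toFun p := consTuple p.1 p.2.1 p.2.2.1 p.2.2.2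
  invFun t := ⟨tailTuple t, t.1 0, head_mem_centralizer_tail t, head_not_mem_range_tail t⟩
  left_inv p := by
    obtain ⟨s, g, h1, h2⟩ := p
    have hs : tailTuple (consTuple s g h1 h2) = s := by
      apply Subtype.ext
      funext i
      simp [tailTuple, consTuple]
    apply Sigma.ext
    · exact hs
    · simp only
      apply Subtype.heq_iff_coe_eq ?_ |>.mpr
      · rfl
      · intro x
        rw [hs]
  right_inv t := by
    apply Subtype.ext
    exact Fin.cons_self_tail _

end Groth.Agent.H90
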