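import Mathlib
import Groth.Agent.H90.Inertia.Cons

set_option autoImplicit false

universe u v

namespace Groth.Agent.H90

open W4c5stacksedinertia

variable {G : Type u} [Group G]

/-- the weighted class attached to a subgroup -/
noncomputable def wcl (G : Type u) [Group G] [Finite G] (D : Subgroup G) : K :=
  ((Nat.card D : ℚ) / (Nat.card G : ℚ)) • cl D

/-- the underlying function of a commuting tuple -/
def tval {r : ℕ} (s : CommTuple G r) : Fin r → G := s.1

/-- the centralizer of a commuting tuple -/
def tcent {r : ℕ} (s : CommTuple G r) : Subgroup G := Subgroup.centralizer (Set.range s.1)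

theorem inertiaROf_eq_wcl (r : ℕ) (G : Type u) [Group G] [Finite G] :
    inertiaROf r G = ∑ᶠ s : CommTuple G r, wcl G (tcent s) :=
  inertiaROf_eq r G

theorem sum_subgroup_eq_sum_ite {M : Type*} [AddCommMonoid M] [Fintype G] (H : Subgroup G)
    [DecidablePred (· ∈ H)] [Fintype H] (f : G → M) :
    ∑ y : H, f y = ∑ g : G, if g ∈ H then f g else 0 := by
  rw [← Finset.sum_filter]
  symm
  apply Finset.sum_subtype
  intro g
  simp

theorem smul_inertiaROf_one_subgroup [Finite G] [Fintype G] (H : Subgroup G) [DecidablePred (· ∈ H)] :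
    ((Nat.card H : ℚ) / (Nat.card G : ℚ)) • inertiaROf 1 H
      = ∑ g : G, if g ∈ H then wcl G (H ⊓ Subgroup.centralizer ({g} : Set G)) else 0 := by
  have instH : Fintype H := Fintype.ofFinite _
  rw [inertiaROf_one_eq, finsum_eq_sum_of_fintype, Finset.smul_sum]
  have hterm : ∀ y : H, ((Nat.card H : ℚ) / (Nat.card G : ℚ)) •
      (((Nat.card (Subgroup.centralizer ({y} : Set H)) : ℚ) / (Nat.card H : ℚ)) •
        cl (Subgroup.centralizer ({y} : Set H)))
        = wcl G (H ⊓ Subgroup.centralizer ({(y : G)} : Set G)) := by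
    intro y
    have e := centralizerSubgroupEquiv H y
    have hcl : cl (Subgroup.centralizer ({y} : Set H))
        = cl (H ⊓ Subgroup.centralizer ({(y : G)} : Set G) : Subgroup G) :=
      cl_eq_of_mulEquiv e
    have hcard : Nat.card (Subgroup.centralizer ({y} : Set H))
        = Nat.card (H ⊓ Subgroup.centralizer ({(y : G)} : Set G) : Subgroup G) :=
      Nat.card_congr e.toEquiv
    have hHne : (Nat.card H : ℚ) ≠ 0 := by exact_mod_cast Nat.card_pos.ne'
    unfold wcl
    rw [hcl, hcard, smul_smul]
    congr 1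
    field_simp
  rw [Finset.sum_congr rfl (fun y _ => hterm y)]
  exact sum_subgroup_eq_sum_ite H (fun g => wcl G (H ⊓ Subgroup.centralizer ({g} : Set G)))

theorem sum_range_part_gen [Finite G] [Fintype G] [DecidableEq G] {r : ℕ} (f : Fin r → G)
    [DecidablePred (· ∈ Set.range f)]
    (hf : Function.Injective f) (H : Subgroup G)
    (hH : ∀ g ∈ Set.range f, H ≤ Subgroup.centralizer ({g} : Set G)) :
    (∑ g : G, if g ∈ Set.range f then wcl G (H ⊓ Subgroup.centralizer ({g} : Set G)) else 0)
      = (r : ℚ) • wcl G H := by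
  have h1 : ∀ g : G, (if g ∈ Set.range f then wcl G (H ⊓ Subgroup.centralizer ({g} : Set G)) else 0)
      = if g ∈ Set.range f then wcl G H else 0 := by
    intro g
    split_ifs with h
    · rw [inf_eq_left.mpr (hH g h)]
    · rfl
  rw [Finset.sum_congr rfl (fun g _ => h1 g), ← Finset.sum_filter, Finset.sum_const,
    ← Nat.cast_smul_eq_nsmul ℚ]
  congr 2
  have : Finset.univ.filter (fun g => g ∈ Set.range f) = Finset.univ.image f := by
    ext g
    simp
  rw [this, Finset.card_image_of_injective _ hf, Finset.card_univ, Fintype.card_fin]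

theorem tcent_le_of_mem_range {r : ℕ} (s : CommTuple G r) :
    ∀ g ∈ Set.range (tval s), tcent s ≤ Subgroup.centralizer ({g} : Set G) := by
  intro g hg
  apply Subgroup.centralizer_le
  exact Set.singleton_subset_iff.mpr hg

theorem sum_new_part [Finite G] [Fintype G] [DecidableEq G] (r : ℕ)
    [Fintype (CommTuple G r)] [Fintype (CommTuple G (r + 1))]
    [∀ (s : CommTuple G r) (g : G), Decidable (g ∈ tcent s ∧ g ∉ Set.range (tval s))] :
    (∑ s : CommTuple G r, ∑ g : G,
        if g ∈ tcent s ∧ g ∉ Set.range (tval s)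
          then wcl G (tcent s ⊓ Subgroup.centralizer ({g} : Set G)) else 0)
      = ∑ t : CommTuple G (r + 1), wcl G (tcent t) := by
  classical
  have hequiv := Fintype.sum_equiv (consEquiv G r)
    (fun p => wcl G (tcent p.1 ⊓ Subgroup.centralizer ({p.2.1} : Set G)))
    (fun t => wcl G (tcent t))
    (fun p => by
      show wcl G (tcent p.1 ⊓ Subgroup.centralizer ({p.2.1} : Set G))
        = wcl G (Subgroup.centralizer (Set.range (consTuple p.1 p.2.1 p.2.2.1 p.2.2.2).1))
      rw [centralizer_consTuple]
      rfl)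
  rw [← hequiv, Fintype.sum_sigma]
  apply Finset.sum_congr rfl
  intro s _
  rw [← Finset.sum_filter]
  exact Finset.sum_subtype (p := fun g : G => g ∈ tcent s ∧ g ∉ Set.range (tval s))
    (Finset.univ.filter (fun g : G => g ∈ tcent s ∧ g ∉ Set.range (tval s)))
    (by intro g; simp)
    (fun g => wcl G (tcent s ⊓ Subgroup.centralizer ({g} : Set G)))

theorem inertia_comp (r : ℕ) (G : Type u) [Group G] [Finite G] :
    inertiaR 1 (inertiaROf r G) = inertiaROf (r + 1) G + (r : ℚ) • inertiaROf r G := by
  classical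
  have instG : Fintype G := Fintype.ofFinite _
  have instX : Fintype (CommTuple G r) := Fintype.ofFinite _
  have instX' : Fintype (CommTuple G (r + 1)) := Fintype.ofFinite _
  rw [inertiaROf_eq_wcl (r + 1) G, inertiaROf_eq_wcl r G, finsum_eq_sum_of_fintype,
    finsum_eq_sum_of_fintype, map_sum]
  have h1 : ∀ s : CommTuple G r, inertiaR 1 (wcl G (tcent s))
      = (∑ g : G, if g ∈ Set.range (tval s) then wcl G (tcent s ⊓ Subgroup.centralizer ({g} : Set G)) else 0)
        + ∑ g : G, if g ∈ tcent s ∧ g ∉ Set.range (tval s)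
            then wcl G (tcent s ⊓ Subgroup.centralizer ({g} : Set G)) else 0 := by
    intro s
    have hA : inertiaR 1 (wcl G (tcent s))
        = ((Nat.card (tcent s) : ℚ) / (Nat.card G : ℚ)) • inertiaROf 1 (tcent s) := by
      unfold wcl
      rw [map_smul, inertiaR_cl]
    rw [hA, smul_inertiaROf_one_subgroup, ← Finset.sum_add_distrib]
    apply Finset.sum_congr rfl
    intro g _
    by_cases hg : g ∈ Set.range (tval s)
    · have hgH : g ∈ tcent s := mem_centralizer_range_of_mem_range s hg
      simp [hg, hgH]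
    · by_cases hgH : g ∈ tcent s
      · simp [hg, hgH]
      · simp [hg, hgH]
  rw [Finset.sum_congr rfl (fun s _ => h1 s), Finset.sum_add_distrib, sum_new_part,
    Finset.sum_congr rfl (fun s _ =>
      sum_range_part_gen (tval s) s.2.1 (tcent s) (tcent_le_of_mem_range s)),
    ← Finset.smul_sum, add_comm]

end Groth.Agent.H90
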