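import Mathlib
import Groth.Agent.H90.Inertia.Formula

set_option autoImplicit false

universe u v

namespace Groth.Agent.H90

open W4c5stacksedinertia

theorem finsum_mem_submodule {ι : Type*} [Finite ι] (W : Submodule ℚ K) (f : ι → K)
    (h : ∀ i, f i ∈ W) : (∑ᶠ i, f i) ∈ W := by
  classical
  have : Fintype ι := Fintype.ofFinite ι
  rw [finsum_eq_sum_of_fintype]
  exact Submodule.sum_mem _ (fun i _ => h i)

theorem inertiaROf_mem_Kle (r : ℕ) (G : Type u) [Group G] [Finite G] {n : ℕ} (h : Nat.card G ≤ n) :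
    inertiaROf r G ∈ Kle n := by
  rw [inertiaROf_eq]
  apply finsum_mem_submodule
  intro s
  apply Submodule.smul_mem
  apply cl_mem_Kle
  exact le_trans (Subgroup.card_le_card_group _) h

theorem inertiaR_mapsTo_Kle (r n : ℕ) (v : K) (hv : v ∈ Kle n) : inertiaR r v ∈ Kle n := by
  apply map_mem_of_basis (inertiaR r) {i : Idx | i.card ≤ n} (Kle n) _ v hv
  intro i hi
  rw [inertiaR_single]
  exact inertiaROf_mem_Kle r i.rep hi

end Groth.Agent.H90
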