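import Mathlib
import Groth.Agent.H90.Inertia.Kle

set_option autoImplicit false

universe u v

namespace Groth.Agent.H90

open W4c5stacksedinertia

variable {G : Type u} [Group G]

theorem center_card_lt [Finite G] {r : ℕ} (s : CommTuple G r) (i₀ : Fin r)
    (h : s.1 i₀ ∉ Subgroup.center G) :
    Nat.card (Subgroup.center G) <
      Nat.card (Subgroup.center (Subgroup.centralizer (Set.range s.1))) := by
  set H := Subgroup.centralizer (Set.range s.1) with hH
  have hZH : Subgroup.center G ≤ H := Subgroup.center_le_centralizer _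
  set Z' : Subgroup G := (Subgroup.center H).map H.subtype with hZ'
  have hcard : Nat.card Z' = Nat.card (Subgroup.center H) :=
    Subgroup.card_map_of_injective H.subtype_injective
  have hle : Subgroup.center G ≤ Z' := by
    intro x hx
    refine ⟨⟨x, hZH hx⟩, ?_, rfl⟩
    rw [SetLike.mem_coe, Subgroup.mem_center_iff]
    intro y
    apply Subtype.ext
    exact (Subgroup.mem_center_iff.mp hx) y.1
  have hs0H : s.1 i₀ ∈ H := by
    show s.1 i₀ ∈ Subgroup.centralizer (Set.range s.1)
    rw [Subgroup.mem_centralizer_iff]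
    rintro x ⟨j, rfl⟩
    exact (s.2.2 j i₀).eq
  have hs0 : s.1 i₀ ∈ Z' := by
    refine ⟨⟨s.1 i₀, hs0H⟩, ?_, rfl⟩
    rw [SetLike.mem_coe, Subgroup.mem_center_iff]
    intro y
    apply Subtype.ext
    have hy : (y : G) ∈ Subgroup.centralizer (Set.range s.1) := y.2
    rw [Subgroup.mem_centralizer_iff] at hy
    exact (hy (s.1 i₀) ⟨i₀, rfl⟩).symm
  have hss : (Subgroup.center G : Set G) ⊂ (Z' : Set G) := by
    refine ⟨hle, ?_⟩
    intro hcon
    exact h (hcon hs0)
  have := Set.ncard_lt_ncard hss (Set.toFinite _)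
  rw [← hcard]
  exact this

/-- central tuples correspond to embeddings into the centre -/
def centralTupleEquiv (G : Type u) [Group G] (r : ℕ) :
    {s : CommTuple G r // ∀ i, s.1 i ∈ Subgroup.center G} ≃ (Fin r ↪ Subgroup.center G) where
  toFun s := ⟨fun i => ⟨s.1.1 i, s.2 i⟩, fun i j hij => s.1.2.1 (congrArg Subtype.val hij)⟩
  invFun e := ⟨⟨fun i => (e i : G), fun i j hij => e.injective (Subtype.ext hij),
    fun i j => by
      have := Subgroup.mem_center_iff.mp (e j).2 (e i : G)
      exact this⟩, fun i => (e i).2⟩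
  left_inv s := by
    apply Subtype.ext
    apply Subtype.ext
    rfl
  right_inv e := by
    ext i
    rfl

theorem inertiaROf_sub_mem_Kge (r : ℕ) (G : Type u) [Group G] [Finite G] :
    inertiaROf r G - ((Nat.card (Subgroup.center G)).descFactorial r : ℚ) • cl G
      ∈ Kge (Nat.card (Subgroup.center G) + 1) := by
  classical
  have instX : Fintype (CommTuple G r) := Fintype.ofFinite _
  have instZ : Fintype (Subgroup.center G) := Fintype.ofFinite _
  rw [inertiaROf_eq, finsum_eq_sum_of_fintype]
  rw [← Finset.sum_filter_add_sum_filter_not Finset.univ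
    (fun s : CommTuple G r => ∀ i, s.1 i ∈ Subgroup.center G)]
  have hcentral : ∑ s ∈ Finset.univ.filter (fun s : CommTuple G r => ∀ i, s.1 i ∈ Subgroup.center G),
      ((Nat.card (Subgroup.centralizer (Set.range s.1)) : ℚ) / (Nat.card G : ℚ)) •
        cl (Subgroup.centralizer (Set.range s.1))
      = ((Nat.card (Subgroup.center G)).descFactorial r : ℚ) • cl G := by
    have hterm : ∀ s ∈ Finset.univ.filter (fun s : CommTuple G r => ∀ i, s.1 i ∈ Subgroup.center G),
        ((Nat.card (Subgroup.centralizer (Set.range s.1)) : ℚ) / (Nat.card G : ℚ)) •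
          cl (Subgroup.centralizer (Set.range s.1)) = cl G := by
      intro s hs
      have hs' : ∀ i, s.1 i ∈ Subgroup.center G := (Finset.mem_filter.mp hs).2
      have htop : Subgroup.centralizer (Set.range s.1) = ⊤ := by
        rw [eq_top_iff]
        intro g _
        rw [Subgroup.mem_centralizer_iff]
        rintro x ⟨i, rfl⟩
        exact (Subgroup.mem_center_iff.mp (hs' i) g).symm
      have hcl : cl (Subgroup.centralizer (Set.range s.1)) = cl G := by
        apply cl_eq_of_mulEquiv
        exact (MulEquiv.subgroupCongr htop).trans Subgroup.topEquiv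
      have hcard : Nat.card (Subgroup.centralizer (Set.range s.1)) = Nat.card G := by
        rw [htop]; exact Subgroup.card_top
      have hG : (Nat.card G : ℚ) ≠ 0 := by exact_mod_cast Nat.card_pos.ne'
      rw [hcl, hcard, div_self hG, one_smul]
    rw [Finset.sum_congr rfl hterm, Finset.sum_const, ← Nat.cast_smul_eq_nsmul ℚ]
    congr 2
    rw [← Fintype.card_subtype, Fintype.card_congr (centralTupleEquiv G r),
      Fintype.card_embedding_eq, Fintype.card_fin, Nat.card_eq_fintype_card]
  rw [hcentral, add_sub_cancel_left]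
  apply Submodule.sum_mem
  intro s hs
  have hs' : ¬ ∀ i, s.1 i ∈ Subgroup.center G := (Finset.mem_filter.mp hs).2
  rw [not_forall] at hs'
  obtain ⟨i₀, hi₀⟩ := hs'
  apply Submodule.smul_mem
  apply cl_mem_Kge
  exact Nat.succ_le_of_lt (center_card_lt s i₀ hi₀)

theorem inertiaR_sub_smul_mem_Kge (r k : ℕ) (v : K) (hv : v ∈ Kge k) :
    inertiaR r v - ((Nat.factorial r * Nat.choose k r : ℕ) : ℚ) • v ∈ Kge (k + 1) := by
  have := map_mem_of_basis
    (inertiaR r - ((Nat.factorial r * Nat.choose k r : ℕ) : ℚ) • LinearMap.id)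
    {j : Idx | k ≤ j.centerCard} (Kge (k + 1)) ?_ v hv
  · simpa using this
  intro i hi
  have hi' : k ≤ i.centerCard := hi
  rw [LinearMap.sub_apply, LinearMap.smul_apply, LinearMap.id_apply, inertiaR_single, ← cl_rep]
  have h1 := inertiaROf_sub_mem_Kge r i.rep
  have hz : Nat.card (Subgroup.center i.rep) = i.centerCard := rfl
  rw [hz] at h1
  have hsplit : inertiaROf r i.rep - ((Nat.factorial r * Nat.choose k r : ℕ) : ℚ) • cl i.rep
      = (inertiaROf r i.rep - ((i.centerCard).descFactorial r : ℚ) • cl i.rep)
        + (((i.centerCard).descFactorial r : ℚ) - ((Nat.factorial r * Nat.choose k r : ℕ) : ℚ)) • cl i.rep := by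
    rw [sub_smul]; abel
  rw [hsplit]
  apply Submodule.add_mem
  · exact Kge_anti (by omega) h1
  · rcases Nat.eq_or_lt_of_le hi' with heq | hlt
    · rw [← heq, Nat.descFactorial_eq_factorial_mul_choose, sub_self, zero_smul]
      exact Submodule.zero_mem _
    · apply Submodule.smul_mem
      apply cl_mem_Kge
      rw [hz]
      exact hlt

end Groth.Agent.H90
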