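import Mathlib
import Groth.Agent.H90.Inertia.Triangular

set_option autoImplicit false

universe u v

namespace Groth.Agent.H90

open W4c5stacksedinertia Polynomial

section linalg

variable {V : Type*} [AddCommGroup V] [Module ℚ V]

/-- the polynomial `∏_{k<n} (X - a k)` -/
noncomputable def rootsPoly (a : ℕ → ℚ) (n : ℕ) : Polynomial ℚ :=
  ∏ k ∈ Finset.range n, (X - C (a k))

theorem aeval_X_sub_C (T : Module.End ℚ V) (μ : ℚ) (v : V) :
    aeval T (X - C μ) v = T v - μ • v := by
  simp [Algebra.algebraMap_eq_smul_one]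

theorem mem_iSup_eigenspace_of_aeval_rootsPoly (T : Module.End ℚ V) (a : ℕ → ℚ)
    (ha : Function.Injective a) : ∀ (n : ℕ) (v : V), aeval T (rootsPoly a n) v = 0 →
      v ∈ ⨆ k ∈ Finset.range n, Module.End.eigenspace T (a k) := by
  intro n
  induction n with
  | zero =>
    intro v hv
    simp [rootsPoly] at hv
    rw [hv]; exact Submodule.zero_mem _
  | succ n ih =>
    intro v hv
    have hcop : IsCoprime (rootsPoly a n) (X - C (a n)) := by
      unfold rootsPoly
      apply IsCoprime.prod_left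
      intro k hk
      apply isCoprime_X_sub_C_of_isUnit_sub
      have : k ≠ n := (Finset.mem_range.mp hk).ne
      exact (sub_ne_zero_of_ne (ha.ne this)).isUnit
    have hsplit : rootsPoly a (n + 1) = rootsPoly a n * (X - C (a n)) := by
      unfold rootsPoly
      rw [Finset.prod_range_succ]
    have hker : v ∈ LinearMap.ker (aeval T (rootsPoly a n * (X - C (a n)))) := by
      rw [LinearMap.mem_ker, ← hsplit]; exact hv
    rw [← sup_ker_aeval_eq_ker_aeval_mul_of_coprime T hcop, Submodule.mem_sup] at hker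
    obtain ⟨x, hx, y, hy, rfl⟩ := hker
    apply Submodule.add_mem
    · have := ih x (LinearMap.mem_ker.mp hx)
      refine (iSup₂_le ?_ : (⨆ k ∈ Finset.range n, Module.End.eigenspace T (a k)) ≤ _) this
      intro k hk
      exact le_iSup₂_of_le k (Finset.mem_range.mpr (Nat.lt_succ_of_lt (Finset.mem_range.mp hk))) le_rfl
    · have hy' : y ∈ Module.End.eigenspace T (a n) := by
        rw [Module.End.mem_eigenspace_iff]
        have := LinearMap.mem_ker.mp hy
        rw [aeval_X_sub_C] at this
        exact sub_eq_zero.mp this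
      exact (le_iSup₂_of_le n (Finset.mem_range.mpr (Nat.lt_succ_self n)) le_rfl :
        Module.End.eigenspace T (a n) ≤ _) hy'

end linalg

/-- the shifted index function `k ↦ k + 1` in `ℚ` -/
def succQ : ℕ → ℚ := fun k => ((k + 1 : ℕ) : ℚ)

theorem succQ_injective : Function.Injective succQ := by
  intro a b h
  have : ((a + 1 : ℕ) : ℚ) = ((b + 1 : ℕ) : ℚ) := h
  have := Nat.cast_injective this
  omega

theorem Kge_one_eq_top : Kge 1 = ⊤ := by
  rw [eq_top_iff]
  intro v _
  unfold Kge
  rw [Finsupp.mem_supported]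
  intro i _
  show 1 ≤ i.centerCard
  exact Nat.card_pos

theorem Kle_inf_Kge_eq_bot (n : ℕ) : Kle n ⊓ Kge (n + 1) = ⊥ := by
  rw [eq_bot_iff]
  intro v hv
  obtain ⟨h1, h2⟩ := hv
  unfold Kle at h1
  unfold Kge at h2
  rw [SetLike.mem_coe, Finsupp.mem_supported] at h1 h2
  rw [Submodule.mem_bot]
  ext i
  by_contra hne
  have hi : i ∈ v.support := Finsupp.mem_support_iff.mpr hne
  have a1 : i.card ≤ n := h1 (Finset.mem_coe.mpr hi)
  have a2 : n + 1 ≤ i.centerCard := h2 (Finset.mem_coe.mpr hi)
  have a3 : i.centerCard ≤ i.card := Subgroup.card_le_card_group _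
  omega

theorem exists_mem_Kle (v : K) : ∃ n, v ∈ Kle n := by
  refine ⟨v.support.sup Idx.card, ?_⟩
  unfold Kle
  rw [Finsupp.mem_supported]
  intro i hi
  exact Finset.le_sup (f := Idx.card) (Finset.mem_coe.mp hi)

theorem aeval_rootsPoly_mem (n : ℕ) (v : K) (hv : v ∈ Kle n) :
    ∀ j, aeval inertia (rootsPoly succQ j) v ∈ Kle n ⊓ Kge (j + 1) := by
  intro j
  induction j with
  | zero =>
    simp only [rootsPoly, Finset.range_zero, Finset.prod_empty, map_one, zero_add]
    rw [Kge_one_eq_top, inf_top_eq]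
    exact hv
  | succ j ih =>
    have hsplit : rootsPoly succQ (j + 1) = (X - C (succQ j)) * rootsPoly succQ j := by
      unfold rootsPoly
      rw [Finset.prod_range_succ, mul_comm]
    rw [hsplit, map_mul, Module.End.mul_apply, aeval_X_sub_C]
    set w := aeval inertia (rootsPoly succQ j) v with hw
    obtain ⟨hw1, hw2⟩ := ih
    constructor
    · exact Submodule.sub_mem _ (inertiaR_mapsTo_Kle 1 n w hw1) (Submodule.smul_mem _ _ hw1)
    · have := inertiaR_sub_smul_mem_Kge 1 (j + 1) w hw2
      have e : ((Nat.factorial 1 * Nat.choose (j + 1) 1 : ℕ) : ℚ) = succQ j := by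
        simp [succQ]
      rw [e] at this
      exact this

theorem aeval_rootsPoly_eq_zero (n : ℕ) (v : K) (hv : v ∈ Kle n) :
    aeval inertia (rootsPoly succQ n) v = 0 := by
  have := aeval_rootsPoly_mem n v hv n
  rw [Kle_inf_Kge_eq_bot] at this
  exact (Submodule.mem_bot ℚ).mp this

theorem iSup_eigenspace_inertia : (⨆ n : ℕ, Module.End.eigenspace inertia (n : ℚ)) = ⊤ := by
  rw [eq_top_iff]
  intro v _
  obtain ⟨n, hn⟩ := exists_mem_Kle v
  have h0 := aeval_rootsPoly_eq_zero n v hn
  have h1 := mem_iSup_eigenspace_of_aeval_rootsPoly inertia succQ succQ_injective n v h0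
  refine (iSup₂_le ?_ : (⨆ k ∈ Finset.range n, Module.End.eigenspace inertia (succQ k)) ≤ _) h1
  intro k _
  exact le_iSup_of_le (k + 1) le_rfl

theorem eigenvalue_of_pos (n : ℕ) (hn : 0 < n) : Module.End.HasEigenvalue inertia (n : ℚ) := by
  have : NeZero n := ⟨hn.ne'⟩
  set G := Multiplicative (ZMod n) with hG
  set i : Idx := Idx.of G with hi
  have hcardG : Nat.card G = n := by
    rw [hG, Nat.card_eq_fintype_card]
    exact (Fintype.card_congr Multiplicative.toAdd).trans (ZMod.card n)
  have hcard : i.card = n := by rw [hi, idx_card_of, hcardG]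
  have hcenter : i.centerCard = n := by
    rw [hi, idx_centerCard_of, CommGroup.center_eq_top, Subgroup.card_top, hcardG]
  set e : K := Finsupp.single i 1 with he
  have he1 : e ∈ Kle n := by
    rw [he, ← cl_rep]
    apply cl_mem_Kle
    exact hcard.le
  have he2 : e ∈ Kge n := by
    rw [he, ← cl_rep]
    apply cl_mem_Kge
    exact hcenter.ge
  have h1 := inertiaR_sub_smul_mem_Kge 1 n e he2
  have h2 : inertiaR 1 e - ((Nat.factorial 1 * Nat.choose n 1 : ℕ) : ℚ) • e ∈ Kle n :=
    Submodule.sub_mem _ (inertiaR_mapsTo_Kle 1 n e he1) (Submodule.smul_mem _ _ he1)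
  have h3 : inertiaR 1 e - ((Nat.factorial 1 * Nat.choose n 1 : ℕ) : ℚ) • e ∈ Kle n ⊓ Kge (n + 1) :=
    ⟨h2, h1⟩
  rw [Kle_inf_Kge_eq_bot, Submodule.mem_bot] at h3
  have h4 : inertia e = (n : ℚ) • e := by
    have := sub_eq_zero.mp h3
    simpa using this
  apply Module.End.hasEigenvalue_of_hasEigenvector (x := e)
  rw [Module.End.hasEigenvector_iff]
  refine ⟨Module.End.mem_eigenspace_iff.mpr h4, ?_⟩
  rw [he]
  intro h0
  have := Finsupp.single_eq_zero.mp h0
  exact one_ne_zero this

theorem eigenvalue_iff (μ : ℚ) :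
    Module.End.HasEigenvalue inertia μ ↔ ∃ n : ℕ, 0 < n ∧ μ = (n : ℚ) := by
  constructor
  · intro hμ
    obtain ⟨v, hv⟩ := hμ.exists_hasEigenvector
    obtain ⟨n, hn⟩ := exists_mem_Kle v
    have h0 := aeval_rootsPoly_eq_zero n v hn
    rw [Module.End.aeval_apply_of_hasEigenvector hv] at h0
    have hv0 : v ≠ 0 := (Module.End.hasEigenvector_iff.mp hv).2
    have h1 : (rootsPoly succQ n).eval μ = 0 := by
      rcases smul_eq_zero.mp h0 with h | h
      · exact h
      · exact absurd h hv0
    unfold rootsPoly at h1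
    rw [eval_prod, Finset.prod_eq_zero_iff] at h1
    obtain ⟨k, _, hk⟩ := h1
    rw [eval_sub, eval_X, eval_C, sub_eq_zero] at hk
    exact ⟨k + 1, Nat.succ_pos k, hk⟩
  · rintro ⟨n, hn, rfl⟩
    exact eigenvalue_of_pos n hn

end Groth.Agent.H90
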