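import Mathlib
import Groth.Agent.H90.Inertia.Comp
import Groth.Agent.H90.Inertia.Diag

set_option autoImplicit false

universe u v

namespace Groth.Agent.H90

open W4c5stacksedinertia Polynomial

theorem inertiaROf_zero (G : Type u) [Group G] [Finite G] : inertiaROf 0 G = cl G := by
  rw [inertiaROf_eq]
  have hU : Unique (CommTuple G 0) :=
    ⟨⟨⟨Fin.elim0, fun i => i.elim0, fun i => i.elim0⟩⟩,
      fun s => Subtype.ext (funext fun i => i.elim0)⟩
  rw [finsum_unique]
  have hrange : Set.range (default : CommTuple G 0).1 = ∅ := Set.range_eq_empty _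
  have hcent : Subgroup.centralizer (Set.range (default : CommTuple G 0).1) = ⊤ := by
    rw [hrange]
    ext x
    simp [Subgroup.mem_centralizer_iff]
  rw [hcent, cl_eq_of_mulEquiv (Subgroup.topEquiv : (⊤ : Subgroup G) ≃* G)]
  have hc : Nat.card (⊤ : Subgroup G) = Nat.card G := Nat.card_congr Subgroup.topEquiv.toEquiv
  have hG : (Nat.card G : ℚ) ≠ 0 := by exact_mod_cast Nat.card_pos.ne'
  rw [hc, div_self hG, one_smul]

theorem inertiaR_zero : inertiaR 0 = LinearMap.id := by
  apply Finsupp.lhom_ext
  intro i q
  have : (Finsupp.single i q : K) = q • Finsupp.single i 1 := by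
    rw [Finsupp.smul_single, smul_eq_mul, mul_one]
  rw [this, map_smul, inertiaR_single, inertiaROf_zero, cl_rep]
  rfl

theorem inertiaR_succ_apply (r : ℕ) (v : K) :
    inertiaR (r + 1) v = inertia (inertiaR r v) - (r : ℚ) • inertiaR r v := by
  have h : inertiaR (r + 1) = (inertia - (r : ℚ) • LinearMap.id) ∘ₗ inertiaR r := by
    apply Finsupp.lhom_ext
    intro i q
    have : (Finsupp.single i q : K) = q • Finsupp.single i 1 := by
      rw [Finsupp.smul_single, smul_eq_mul, mul_one]
    rw [this, map_smul, map_smul, inertiaR_single]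
    congr 1
    rw [LinearMap.comp_apply, inertiaR_single, LinearMap.sub_apply, LinearMap.smul_apply,
      LinearMap.id_apply]
    show _ = inertiaR 1 (inertiaROf r i.rep) - _
    rw [inertia_comp]
    abel
  rw [h]
  rfl

theorem inertiaR_eq_aeval (r : ℕ) : inertiaR r = aeval inertia (descPochhammer ℚ r) := by
  induction r with
  | zero =>
    rw [descPochhammer_zero, map_one, inertiaR_zero]
    rfl
  | succ r ih =>
    apply LinearMap.ext
    intro v
    rw [inertiaR_succ_apply, descPochhammer_succ_right, mul_comm, map_mul, map_sub, aeval_X,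
      map_natCast, Module.End.mul_apply, ← ih, LinearMap.sub_apply]
    congr 1

theorem eigenspace_inertia_le (k r : ℕ) :
    Module.End.eigenspace inertia (k : ℚ) ≤
      Module.End.eigenspace (inertiaR r) ((Nat.factorial r * Nat.choose k r : ℕ) : ℚ) := by
  intro v hv
  rw [Module.End.mem_eigenspace_iff] at hv ⊢
  by_cases hv0 : v = 0
  · subst hv0; simp
  rw [inertiaR_eq_aeval]
  have hev : Module.End.HasEigenvector inertia (k : ℚ) v :=
    ⟨Module.End.mem_eigenspace_iff.mpr hv, hv0⟩
  rw [Module.End.aeval_apply_of_hasEigenvector hev, descPochhammer_eval_eq_descFactorial,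
    Nat.descFactorial_eq_factorial_mul_choose]

theorem descPochhammer_eq_rootsPoly (r : ℕ) :
    descPochhammer ℚ r = rootsPoly (fun k => (k : ℚ)) r := by
  induction r with
  | zero => simp [rootsPoly]
  | succ r ih =>
    rw [descPochhammer_succ_right, ih]
    unfold rootsPoly
    rw [Finset.prod_range_succ, map_natCast]

theorem ker_inertiaR (r : ℕ) :
    LinearMap.ker (inertiaR r) = ⨆ k ∈ Finset.range r, Module.End.eigenspace inertia (k : ℚ) := by
  apply le_antisymm
  · intro v hv
    rw [LinearMap.mem_ker, inertiaR_eq_aeval, descPochhammer_eq_rootsPoly] at hv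
    exact mem_iSup_eigenspace_of_aeval_rootsPoly inertia (fun k => (k : ℚ)) Nat.cast_injective r v hv
  · apply iSup₂_le
    intro k hk v hv
    rw [LinearMap.mem_ker]
    have h := eigenspace_inertia_le k r hv
    rw [Module.End.mem_eigenspace_iff] at h
    rw [h, Nat.choose_eq_zero_of_lt (Finset.mem_range.mp hk)]
    simp

end Groth.Agent.H90
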