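import Mathlib
import Groth.Agent.H90.Inertia.Poch

set_option autoImplicit false

universe u v

namespace Groth.Agent.H90

open W4c5stacksedinertia Polynomial

theorem alt_sum_choose_Q (n : ℕ) :
    ∑ j ∈ Finset.range (n + 1), (-1 : ℚ) ^ j * (n.choose j : ℚ) = if n = 0 then 1 else 0 := by
  have h := @Int.alternating_sum_range_choose n
  have h2 := congrArg (fun z : ℤ => (z : ℚ)) h
  simp only [Int.cast_sum, Int.cast_mul, Int.cast_pow, Int.cast_neg, Int.cast_one,
    Int.cast_natCast] at h2
  rw [h2]
  split_ifs <;> simp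

theorem binom_inversion (m k N : ℕ) (hN : m < N) :
    ∑ r ∈ Finset.range N, (-1 : ℚ) ^ (r + k) * (r.choose k : ℚ) * (m.choose r : ℚ)
      = if m = k then 1 else 0 := by
  have h1 : ∑ r ∈ Finset.range N, (-1 : ℚ) ^ (r + k) * (r.choose k : ℚ) * (m.choose r : ℚ)
      = ∑ r ∈ Finset.range (m + 1), (-1 : ℚ) ^ (r + k) * (r.choose k : ℚ) * (m.choose r : ℚ) := by
    symm
    apply Finset.sum_subset (Finset.range_subset_range.mpr hN)
    intro r _ hr
    have : m < r := by
      rw [Finset.mem_range, not_lt] at hr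
      omega
    rw [Nat.choose_eq_zero_of_lt this]
    simp
  rw [h1]
  by_cases hkm : k ≤ m
  · rw [← Finset.sum_range_add_sum_Ico _ (by omega : k ≤ m + 1)]
    have hz : ∑ r ∈ Finset.range k, (-1 : ℚ) ^ (r + k) * (r.choose k : ℚ) * (m.choose r : ℚ) = 0 := by
      apply Finset.sum_eq_zero
      intro r hr
      rw [Nat.choose_eq_zero_of_lt (Finset.mem_range.mp hr)]
      simp
    rw [hz, zero_add, Finset.sum_Ico_eq_sum_range]
    have hterm : ∀ j ∈ Finset.range (m + 1 - k),
        (-1 : ℚ) ^ (k + j + k) * ((k + j).choose k : ℚ) * (m.choose (k + j) : ℚ)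
          = (m.choose k : ℚ) * ((-1 : ℚ) ^ j * ((m - k).choose j : ℚ)) := by
      intro j _
      have hc : m.choose (k + j) * (k + j).choose k = m.choose k * (m - k).choose j := by
        have := @Nat.choose_mul m (k + j) k (by omega)
        rw [this]
        congr 2
        omega
      have hc' : ((k + j).choose k : ℚ) * (m.choose (k + j) : ℚ)
          = (m.choose k : ℚ) * ((m - k).choose j : ℚ) := by
        rw [mul_comm]
        exact_mod_cast hc
      have hs : (-1 : ℚ) ^ (k + j + k) = (-1 : ℚ) ^ j := by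
        have : k + j + k = 2 * k + j := by ring
        rw [this, pow_add, pow_mul]
        simp
      rw [hs, mul_assoc, hc']
      ring
    rw [Finset.sum_congr rfl hterm, ← Finset.mul_sum]
    have hrange : m + 1 - k = (m - k) + 1 := by omega
    rw [hrange, alt_sum_choose_Q]
    by_cases hmk : m = k
    · subst hmk
      simp
    · have : m - k ≠ 0 := by omega
      rw [if_neg this, if_neg hmk, mul_zero]
  · rw [not_le] at hkm
    have hne : m ≠ k := by omega
    rw [if_neg hne]
    apply Finset.sum_eq_zero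
    intro r hr
    have : r < k := by
      have := Finset.mem_range.mp hr
      omega
    rw [Nat.choose_eq_zero_of_lt this]
    simp

theorem eigenproj_eq (v : K) (w : ℕ →₀ K)
    (hw : ∀ m : ℕ, w m ∈ Module.End.eigenspace inertia (m : ℚ))
    (hv : (w.sum fun _ x => x) = v) (k : ℕ) :
    (∑ᶠ r : ℕ, (((-1 : ℚ) ^ (r + k)) / (Nat.factorial r : ℚ) * (Nat.choose r k : ℚ)) •
        inertiaR r v) = w k := by
  classical
  obtain ⟨N, hN⟩ : ∃ N, ∀ m ∈ w.support, m < N := by
    refine ⟨w.support.sup id + 1, fun m hm => ?_⟩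
    have : id m ≤ w.support.sup id := Finset.le_sup hm
    exact Nat.lt_succ_of_le this
  have hR : ∀ r, inertiaR r v
      = ∑ m ∈ w.support, ((Nat.factorial r * Nat.choose m r : ℕ) : ℚ) • w m := by
    intro r
    rw [← hv, Finsupp.sum, map_sum]
    apply Finset.sum_congr rfl
    intro m _
    have := eigenspace_inertia_le m r (hw m)
    rw [Module.End.mem_eigenspace_iff] at this
    exact this
  have hsupp : Function.support (fun r : ℕ =>
      (((-1 : ℚ) ^ (r + k)) / (Nat.factorial r : ℚ) * (Nat.choose r k : ℚ)) • inertiaR r v)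
      ⊆ ↑(Finset.range N) := by
    intro r hr
    rw [Function.mem_support] at hr
    rw [Finset.coe_range, Set.mem_Iio]
    by_contra hge
    rw [not_lt] at hge
    apply hr
    rw [hR r]
    have : ∑ m ∈ w.support, ((Nat.factorial r * Nat.choose m r : ℕ) : ℚ) • w m = 0 := by
      apply Finset.sum_eq_zero
      intro m hm
      have hlt : m < r := lt_of_lt_of_le (hN m hm) hge
      rw [Nat.choose_eq_zero_of_lt hlt]
      simp
    rw [this, smul_zero]
  rw [finsum_eq_sum_of_support_subset _ hsupp]
  have hstep : ∀ r ∈ Finset.range N,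
      (((-1 : ℚ) ^ (r + k)) / (Nat.factorial r : ℚ) * (Nat.choose r k : ℚ)) • inertiaR r v
        = ∑ m ∈ w.support,
          ((-1 : ℚ) ^ (r + k) * (r.choose k : ℚ) * (m.choose r : ℚ)) • w m := by
    intro r _
    rw [hR r, Finset.smul_sum]
    apply Finset.sum_congr rfl
    intro m _
    rw [smul_smul]
    congr 1
    have hf : (Nat.factorial r : ℚ) ≠ 0 := by exact_mod_cast Nat.factorial_ne_zero r
    push_cast
    field_simp
  rw [Finset.sum_congr rfl hstep, Finset.sum_comm]
  have hinner : ∀ m ∈ w.support,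
      ∑ r ∈ Finset.range N, ((-1 : ℚ) ^ (r + k) * (r.choose k : ℚ) * (m.choose r : ℚ)) • w m
        = if m = k then w m else 0 := by
    intro m hm
    rw [← Finset.sum_smul, binom_inversion m k N (hN m hm)]
    split_ifs <;> simp
  rw [Finset.sum_congr rfl hinner, Finset.sum_ite_eq' w.support k (fun m => w m)]
  split_ifs with hk
  · rfl
  · exact (Finsupp.notMem_support_iff.mp hk).symm

theorem eigenprojection_formula (v : K) :
    (∀ k : ℕ, (∑ᶠ r : ℕ, (((-1 : ℚ) ^ (r + k)) / (Nat.factorial r : ℚ) * (Nat.choose r k : ℚ)) •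
        inertiaR r v) ∈ Module.End.eigenspace inertia (k : ℚ)) ∧
    (∑ᶠ k : ℕ, ∑ᶠ r : ℕ, (((-1 : ℚ) ^ (r + k)) / (Nat.factorial r : ℚ) * (Nat.choose r k : ℚ)) •
        inertiaR r v) = v := by
  have hmem : v ∈ ⨆ n : ℕ, Module.End.eigenspace inertia (n : ℚ) := by
    rw [iSup_eigenspace_inertia]
    exact Submodule.mem_top
  obtain ⟨w, hw, hv⟩ := (Submodule.mem_iSup_iff_exists_finsupp _ _).mp hmem
  constructor
  · intro k
    rw [eigenproj_eq v w hw hv k]
    exact hw k
  · have : ∀ k : ℕ, (∑ᶠ r : ℕ,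
        (((-1 : ℚ) ^ (r + k)) / (Nat.factorial r : ℚ) * (Nat.choose r k : ℚ)) • inertiaR r v)
        = w k := fun k => eigenproj_eq v w hw hv k
    rw [finsum_congr this]
    rw [finsum_eq_sum_of_support_subset (s := w.support) _ (by
      intro k hk
      rw [Function.mem_support] at hk
      exact Finset.mem_coe.mpr (Finsupp.mem_support_iff.mpr hk))]
    exact hv

end Groth.Agent.H90
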